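/-
Certificate data of a coset enumeration.
-/
import Cfsg.Agent.Lib.HeldRecog.B59_19.Data

set_option autoImplicit false
set_option maxRecDepth 1000000

namespace CfsgLib.HeldRecog.B59_19

open CfsgLib.CosetEnum

/-- Completion of the rows from 0. -/
def rows0 : List (List ℕ) := [[0x1, 0x1001, 0x2001, 0x3001, 0x4001], [0x5001, 0x8001, 0xb001, 0xc001, 0x4001], [0x5001, 0x7001, 0x6001, 0xe001, 0x12001], [0x9001, 0x8001, 0x13001, 0xa001, 0x17001], [0xf001, 0x14001, 0xb001, 0xc001, 0xd001], [0xf001, 0x11001, 0x10001, 0xe001, 0x18001], [0x19001, 0x1b001, 0x1d001, 0x1f001, 0x12001], [0x15001, 0x14001, 0x13001, 0x16001, 0x22001], [0x23001, 0x25001, 0x27001, 0x2a001, 0x17001], [0x2d001, 0x30001, 0x20001, 0x1e001, 0x18001], [0x19001, 0x1a001, 0x2e001, 0x33001, 0x19d00035002], [0x1c001, 0x1b001, 0x37001, 0x39001, 0x1950003c002], [0x3d001, 0x38001, 0x1d001, 0x1e001, 0x21001], [0x34001, 0x40001, 0x20001, 0x1f001, 0x21001], [0x42001, 0x3b001, 0x2b001, 0x28001,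 0x22001], [0x23001, 0x24001, 0x44001, 0x45001, 0x17600048002], [0x26001, 0x25001, 0x49001, 0x32001, 0x18c0004d002], [0x4e001, 0x4a001, 0x27001, 0x28001, 0x29001], [0x47001, 0x52001, 0x2b001, 0x2a001, 0x2c001], [0x2d001, 0x2f001, 0x2e001, 0x3f001, 0x56001], [0x31001, 0x30001, 0x41001, 0x32001, 0x57001], [0x34001, 0x4f001, 0x3e001, 0x33001, 0x58001], [0x54001, 0x38001, 0x37001, 0x55001, 0x5e001], [0x3a001, 0x3b001, 0x53001, 0x39001, 0x5f001], [0x3d001, 0x46001, 0x3e001, 0x3f001, 0x18b00063002], [0x4c001, 0x40001, 0x41001, 0x4b001, 0x17400068002], [0x42001, 0x43001, 0x44001, 0x51001, 0x69001], [0x47001, 0x46001, 0x50001, 0x45001, 0x6a001], [0x4c001, 0x4a001, 0x49001, 0x4b001, 0x6e001], [0x4e001, 0x4f001, 0x50001, 0x51001, 0x17500077002], [0x54001, 0x52001, 0x53001, 0x55001, 0x1890007d002], [0x80001, 0x18d00082002, 0x17800083002, 0x17700086002, 0x56001], [0x89001, 0x19b0008a002, 0x16d0008b002, 0x1670008d002, 0x57001], [0x90001, 0x19600092002, 0x17700087002,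 0x17800084002, 0x58001], [0x19a00097002, 0x18300098002, 0x17f00099002, 0x16a0009b002, 0x5e001], [0x18e0009e002, 0x186000a1002, 0x16a0009c002, 0x17f0009a002, 0x5f001], [0x197000a3002, 0x17a000a5002, 0x15f000a8002, 0x162000ab002, 0x69001], [0x198000ad002, 0xb0001, 0x162000ac002, 0x15f000a9002, 0x6a001], [0x184000b3002, 0x199000b6002, 0x1670008e002, 0x16d0008c002, 0x6e001], [0x80001, 0x197000a4002, 0x91001, 0x19f000b9002, 0x81001], [0x89001, 0x18e000a0002, 0x184000b4002, 0x160000c4002, 0x18f000c6002], [0x90001, 0x198000af002, 0x91001, 0x168000c1002, 0xd1001], [0x196000b1002, 0xb0001, 0x194000f6002, 0x186000b2002, 0xfb001], [0x19200100002, 0x19300115002, 0x19200101002, 0xd2001, 0xd1001], [0x19c00122002, 0x19e0013f002, 0x19c00121002, 0xfc001, 0xfb001]]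

theorem rows0_ok : okRows data table 416 0 rows0 = true := by decide +kernel

theorem rows0_len : rows0.length = 45 := by decide +kernel

end CfsgLib.HeldRecog.B59_19
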